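import Mathlib.Algebra.Polynomial.Eval.Defs
import Mathlib.Algebra.Polynomial.AlgebraMap
import Mathlib.Algebra.Polynomial.Div
import Mathlib.Analysis.SpecialFunctions.Trigonometric.Basic
import Mathlib.Tactic.LinearCombination

/-!
# Scaled Chebyshev polynomials for the Feit-Higman theorem

`H u k` is `(√u) ^ k * U_k (X / (2 √u))`; `v` is the polynomial which carries the Hecke
algebra element of a parabolic double coset.
-/

set_option autoImplicit false

open Polynomial

namespace Cfsg.Agent.FeitHigman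

/-- Scaled Chebyshev polynomials of the second kind. -/
noncomputable def H (u : ℝ) : ℕ → ℝ[X]
  | 0 => 1
  | 1 => X
  | (k + 2) => X * H u (k + 1) - C u * H u k

/-- The polynomial of the `k`-th parabolic double coset, `k ≥ 1`. -/
noncomputable def v (s t : ℝ) : ℕ → ℝ[X]
  | 0 => 0
  | 1 => H (s * t) 1 + C (s - 1) * H (s * t) 0
  | (k + 2) => H (s * t) (k + 2) + C (s - 1) * H (s * t) (k + 1) - C s * H (s * t) k

/-- The divided difference `(H k - H k (θ)) / (X - θ)`. -/
noncomputable def K (u θ : ℝ) : ℕ → ℝ[X]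
  | 0 => 0
  | 1 => 1
  | (k + 2) => H u (k + 1) + C θ * K u θ (k + 1) - C u * K u θ k

/-- The quadratic polynomial killing the two non-principal linear characters. -/
noncomputable def Q (s t : ℝ) : ℝ[X] :=
  (X - C (s * t + 1)) * (X + C (s + t))

theorem H_zero (u : ℝ) : H u 0 = 1 := by simp [H]

theorem H_one (u : ℝ) : H u 1 = X := by simp [H]

theorem H_add_two (u : ℝ) (k : ℕ) : H u (k + 2) = X * H u (k + 1) - C u * H u k := by
  simp [H]

theorem eval_H_add_two (u x : ℝ) (k : ℕ) :
    (H u (k + 2)).eval x = x * (H u (k + 1)).eval x - u * (H u k).eval x := by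
  simp [H_add_two]

theorem v_one (s t : ℝ) : v s t 1 = X + C (s - 1) := by simp [v, H]

theorem v_two (s t : ℝ) : v s t 2 = X * X + C (s - 1) * X - C (s * t) - C s := by
  simp [v, H]
  ring

theorem v_add_three (s t : ℝ) (k : ℕ) :
    v s t (k + 3) = X * v s t (k + 2) - C (s * t) * v s t (k + 1) := by
  cases k with
  | zero => simp only [v, H]; ring
  | succ k => simp only [v, H]; ring

theorem Q_mul_H (s t : ℝ) (m : ℕ) :
    Q s t * H (s * t) (m + 1) =
      v s t (m + 3) - C ((s - 1) * t) * v s t (m + 2) - C (s * t * t) * v s t (m + 1) := by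
  cases m with
  | zero =>
    simp only [Q, v, H, map_add, map_sub, map_mul, map_one]
    ring
  | succ m =>
    simp only [Q, v, H, map_add, map_sub, map_mul, map_one]
    ring

theorem Q_mul_G (q : ℝ) (d : ℕ) :
    (X - C (q * q + 1)) * (H (q * q) (d + 2) + C q * H (q * q) (d + 1)) =
      v q q (d + 3) - C (q * q) * v q q (d + 2) := by
  cases d with
  | zero =>
    simp only [v, H, map_add, map_sub, map_mul, map_one]
    ring
  | succ d =>
    simp only [v, H, map_add, map_sub, map_mul, map_one]
    ring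

theorem X_sub_mul_K (u θ : ℝ) (k : ℕ) :
    (X - C θ) * K u θ k = H u k - C ((H u k).eval θ) := by
  induction k using Nat.twoStepInduction with
  | zero => simp [K, H]
  | one => simp [K, H]
  | more k ih1 ih2 =>
    rw [H_add_two, eval_sub, eval_mul, eval_mul, eval_X, eval_C, map_sub, map_mul, map_mul]
    simp only [K]
    linear_combination C θ * ih2 - C u * ih1

theorem eval_K_rec (u θ : ℝ) (k : ℕ) :
    (K u θ (k + 2)).eval θ =
      (H u (k + 1)).eval θ + θ * (K u θ (k + 1)).eval θ - u * (K u θ k).eval θ := by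
  simp [K]

theorem eval_K (u θ : ℝ) (k : ℕ) :
    (θ ^ 2 - 4 * u) * (K u θ (k + 1)).eval θ =
      (k + 1) * θ * (H u (k + 1)).eval θ - 2 * (k + 2) * u * (H u k).eval θ := by
  induction k using Nat.twoStepInduction with
  | zero => simp [K, H]; ring
  | one => simp [K, H]; ring
  | more k ih1 ih2 =>
    have e0 := eval_H_add_two u θ k
    have e1 := eval_H_add_two u θ (k + 1)
    rw [eval_K_rec]
    rw [show k + 2 + 1 = k + 1 + 2 from rfl, e1, e0]
    rw [show k + 1 + 1 = k + 2 from rfl, e0] at ih2
    -- all values are now in terms of two consecutive ones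
    push_cast at ih1 ih2 ⊢
    linear_combination θ * ih2 - u * ih1

theorem H_ne_zero_pair (u θ : ℝ) (hu : u ≠ 0) (k : ℕ) :
    ¬ ((H u k).eval θ = 0 ∧ (H u (k + 1)).eval θ = 0) := by
  induction k with
  | zero => simp [H]
  | succ k ih =>
    rintro ⟨h1, h2⟩
    rw [eval_H_add_two, h1, mul_zero, zero_sub, neg_eq_zero] at h2
    exact ih ⟨(mul_eq_zero.1 h2).resolve_left hu, h1⟩

theorem H_neg (u θ : ℝ) (k : ℕ) : (H u k).eval (-θ) = (-1) ^ k * (H u k).eval θ := by
  induction k using Nat.twoStepInduction with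
  | zero => simp [H]
  | one => simp [H]
  | more k ih1 ih2 =>
    rw [eval_H_add_two, eval_H_add_two, ih1, ih2]
    ring

theorem H_cos (r φ : ℝ) (k : ℕ) :
    (H (r ^ 2) k).eval (2 * r * Real.cos φ) * Real.sin φ = r ^ k * Real.sin ((k + 1) * φ) := by
  induction k using Nat.twoStepInduction with
  | zero => simp [H]
  | one =>
    simp only [H, eval_X, Nat.cast_one]
    rw [show ((1 : ℝ) + 1) * φ = 2 * φ by ring, Real.sin_two_mul]
    ring
  | more k ih1 ih2 =>
    rw [eval_H_add_two]
    push_cast at ih1 ih2 ⊢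
    have e1 : ((k : ℝ) + 2 + 1) * φ = (k + 1 + 1) * φ + φ := by ring
    have e2 : ((k : ℝ) + 1) * φ = (k + 1 + 1) * φ - φ := by ring
    rw [e1, Real.sin_add]
    rw [e2, Real.sin_sub] at ih1
    linear_combination (2 * r * Real.cos φ) * ih2 - r ^ 2 * ih1

end Cfsg.Agent.FeitHigman
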