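import Mathlib.LinearAlgebra.Matrix.Trace
import Mathlib.LinearAlgebra.Trace
import Mathlib.LinearAlgebra.Matrix.ToLin
import Mathlib.Tactic.NoncommRing
import Mathlib.Tactic.Module
import Cfsg.Agent.Lib.FeitHigman.Poly

/-!
# The trace functional of a Hecke algebra of dihedral type

Two matrices `x`, `y` satisfy quadratic relations, a braid relation of length `n`, and every
alternating product of length `1, ..., n` has trace zero.  The eigenvalues of the central element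
on the image of `1 + y` then satisfy a quadratic equation with integer coefficients.
-/

set_option autoImplicit false

open Polynomial Matrix

namespace Cfsg.Agent.FeitHigman

/-- The alternating product `x y x ...` with `k` factors. -/
def pr {M : Type*} [Monoid M] (x y : M) : ℕ → M
  | 0 => 1
  | (k + 1) => x * pr y x k

theorem pr_add_two {M : Type*} [Monoid M] (x y : M) (k : ℕ) :
    pr x y (k + 2) = x * y * pr x y k := by
  simp [pr, mul_assoc]

theorem pr_even {M : Type*} [Monoid M] (x y : M) (k : ℕ) : pr x y (2 * k) = (x * y) ^ k := by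
  induction k with
  | zero => simp [pr]
  | succ k ih => rw [show 2 * (k + 1) = 2 * k + 2 by ring, pr_add_two, ih, pow_succ' (x * y)]

theorem pr_odd {M : Type*} [Monoid M] (x y : M) (k : ℕ) :
    pr x y (2 * k + 1) = (x * y) ^ k * x := by
  induction k with
  | zero => simp [pr]
  | succ k ih =>
    rw [show 2 * (k + 1) + 1 = 2 * k + 1 + 2 by ring, pr_add_two, ih, pow_succ' (x * y)]
    simp [mul_assoc]

/-- The hypotheses: a representation of a dihedral Hecke algebra with its standard trace. -/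
structure HeckeRep (X : Type*) [Fintype X] [DecidableEq X] where
  n : ℕ
  s : ℕ
  t : ℕ
  hn : 2 ≤ n
  hs : 2 ≤ s
  ht : 2 ≤ t
  hX : Nonempty X
  x : Matrix X X ℝ
  y : Matrix X X ℝ
  hx : x * x = ((s : ℝ) - 1) • x + (s : ℝ) • (1 : Matrix X X ℝ)
  hy : y * y = ((t : ℝ) - 1) • y + (t : ℝ) • (1 : Matrix X X ℝ)
  tr_x : ∀ k, 1 ≤ k → k ≤ n → (pr x y k).trace = 0
  tr_y : ∀ k, 1 ≤ k → k ≤ n → (pr y x k).trace = 0
  braid : pr x y n = pr y x n

namespace HeckeRep

variable {X : Type*} [Fintype X] [DecidableEq X] (D : HeckeRep X)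

local notation "σ₁" => (D.s : ℝ)
local notation "τ₁" => (D.t : ℝ)

/-- The parabolic idempotent, unnormalised. -/
def P : Matrix X X ℝ := 1 + D.y

/-- The central element. -/
noncomputable def Y : Matrix X X ℝ :=
  D.x * D.y + D.y * D.x - (τ₁ - 1) • D.x - (σ₁ - 1) • D.y + ((σ₁ - 1) * (τ₁ - 1)) • 1

/-- The element `xy`. -/
def R : Matrix X X ℝ := D.x * D.y

/-- The parabolic double coset sums. -/
def M (k : ℕ) : Matrix X X ℝ := D.P * (D.R ^ k * (D.x * D.P))

theorem yy (z : Matrix X X ℝ) : D.y * (D.y * z) = (τ₁ - 1) • (D.y * z) + τ₁ • z := by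
  rw [← mul_assoc, D.hy, add_mul, smul_mul_assoc, smul_mul_assoc, one_mul]

theorem xx (z : Matrix X X ℝ) : D.x * (D.x * z) = (σ₁ - 1) • (D.x * z) + σ₁ • z := by
  rw [← mul_assoc, D.hx, add_mul, smul_mul_assoc, smul_mul_assoc, one_mul]

theorem y_mul_Y : D.y * D.Y = D.Y * D.y := by
  simp only [Y, mul_add, add_mul, mul_sub, sub_mul, mul_assoc, mul_smul_comm, smul_mul_assoc,
    mul_one, one_mul, smul_add, smul_smul, D.yy, D.hy]
  module

theorem P_mul_P : D.P * D.P = (τ₁ + 1) • D.P := by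
  simp only [P, mul_add, add_mul, mul_one, one_mul, D.hy]
  module

theorem P_mul_y : D.P * D.y = τ₁ • D.P := by
  simp only [P, add_mul, one_mul, D.hy]
  module

theorem y_mul_P : D.y * D.P = τ₁ • D.P := by
  simp only [P, mul_add, mul_one, D.hy]
  module

theorem commute_P_Y : Commute D.P D.Y := by
  show D.P * D.Y = D.Y * D.P
  simp only [P, mul_add, add_mul, mul_one, one_mul, y_mul_Y]

theorem commute_P_aeval (f : ℝ[X]) : Commute D.P (aeval D.Y f) := by
  induction f using Polynomial.induction_on' with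
  | add p q hp hq => simpa [map_add] using hp.add_right hq
  | monomial k a =>
    simpa [aeval_monomial] using
      (Algebra.commute_algebraMap_right a D.P).mul_right (D.commute_P_Y.pow_right k)

theorem Y_mul_R : D.Y * D.R = D.R * D.R + (σ₁ * τ₁) • 1 := by
  simp only [Y, R, mul_add, add_mul, mul_sub, sub_mul, mul_assoc, mul_smul_comm, smul_mul_assoc,
    mul_one, one_mul, smul_add, smul_smul, D.yy, D.xx, D.hy, D.hx]
  module

theorem aeval_v_one : aeval D.Y (v σ₁ τ₁ 1) * D.P = D.M 0 := by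
  simp only [v_one, map_add, aeval_X, aeval_C, Algebra.algebraMap_eq_smul_one, M, P, Y, R, pow_zero,
    mul_add, add_mul, mul_sub, sub_mul, mul_assoc, mul_smul_comm, smul_mul_assoc,
    mul_one, one_mul, smul_add, smul_smul, D.yy, D.xx, D.hy, D.hx]
  module

theorem aeval_v_two : aeval D.Y (v σ₁ τ₁ 2) * D.P = D.M 1 := by
  simp only [v_two, map_add, map_sub, map_mul, aeval_X, aeval_C, Algebra.algebraMap_eq_smul_one,
    M, P, Y, R, pow_one,
    mul_add, add_mul, mul_sub, sub_mul, mul_assoc, mul_smul_comm, smul_mul_assoc,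
    mul_one, one_mul, smul_add, smul_sub, smul_smul, D.yy, D.xx, D.hy, D.hx]
  module

theorem Y_mul_M (k : ℕ) : D.Y * D.M (k + 1) = D.M (k + 2) + (σ₁ * τ₁) • D.M k := by
  rw [M, ← mul_assoc, ← D.commute_P_Y.eq, mul_assoc, ← mul_assoc D.Y, pow_succ' D.R k,
    ← mul_assoc D.Y, Y_mul_R, M, M, add_mul, add_mul, smul_mul_assoc, smul_mul_assoc, one_mul,
    mul_add, mul_smul_comm, ← pow_two, ← pow_add, Nat.add_comm 2 k]

theorem aeval_v (k : ℕ) : aeval D.Y (v σ₁ τ₁ (k + 1)) * D.P = D.M k := by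
  induction k using Nat.twoStepInduction with
  | zero => exact D.aeval_v_one
  | one => exact D.aeval_v_two
  | more k ih1 ih2 =>
    rw [show k + 2 + 1 = k + 3 from rfl, v_add_three, map_sub, map_mul, map_mul, aeval_X, aeval_C,
      sub_mul, mul_assoc, mul_assoc, ih1, show k + 2 = k + 1 + 1 from rfl, ih2,
      Y_mul_M, Algebra.algebraMap_eq_smul_one, smul_mul_assoc, one_mul]
    abel

/-- The trace functional. -/
noncomputable def μ (f : ℝ[X]) : ℝ := (aeval D.Y f * D.P).trace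

theorem μ_add (f g : ℝ[X]) : D.μ (f + g) = D.μ f + D.μ g := by
  simp [μ, map_add, add_mul, Matrix.trace_add]

theorem μ_sub (f g : ℝ[X]) : D.μ (f - g) = D.μ f - D.μ g := by
  simp [μ, map_sub, sub_mul, Matrix.trace_sub]

theorem μ_C_mul (c : ℝ) (f : ℝ[X]) : D.μ (C c * f) = c * D.μ f := by
  simp [μ, map_mul, aeval_C, Algebra.algebraMap_eq_smul_one, smul_mul_assoc]

theorem μ_one : D.μ 1 = (Fintype.card X : ℝ) := by
  have := D.tr_y 1 le_rfl (by have := D.hn; omega)
  simp only [pr, mul_one] at this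
  simp [μ, P, Matrix.trace_add, this]

theorem trace_M_eq (k : ℕ) :
    (D.M k).trace = (τ₁ + 1) * ((pr D.x D.y (2 * k + 1)).trace + (pr D.y D.x (2 * k + 2)).trace) := by
  rw [M, Matrix.trace_mul_comm, mul_assoc, mul_assoc, P_mul_P, mul_smul_comm, mul_smul_comm,
    Matrix.trace_smul, smul_eq_mul, ← mul_assoc, Matrix.trace_mul_comm]
  have key : ∀ Z : Matrix X X ℝ, (D.P * Z).trace = Z.trace + (D.y * Z).trace := fun Z => by
    rw [P, add_mul, one_mul, Matrix.trace_add]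
  rw [key, show pr D.y D.x (2 * k + 2) = D.y * pr D.x D.y (2 * k + 1) from rfl, pr_odd]
  rfl

theorem trace_M (k : ℕ) (hk : 2 * k + 1 ≤ D.n) : (D.M k).trace = 0 := by
  rw [trace_M_eq, D.tr_x _ (by omega) hk]
  rcases Nat.lt_or_ge (2 * k + 1) D.n with h | h
  · rw [D.tr_y _ (by omega) (by omega)]
    simp
  · have hn : 2 * k + 1 = D.n := le_antisymm hk h
    have hn' := D.hn
    obtain ⟨j, rfl⟩ : ∃ j, k = j + 1 := ⟨k - 1, by omega⟩
    have e : pr D.y D.x (2 * (j + 1) + 2) = D.y * pr D.x D.y (2 * (j + 1) + 1) := rfl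
    rw [e, hn, D.braid, ← hn]
    have e' : pr D.y D.x (2 * (j + 1) + 1) = D.y * pr D.x D.y (2 * (j + 1)) := rfl
    rw [e', yy, Matrix.trace_add, Matrix.trace_smul, Matrix.trace_smul, ← e',
      D.tr_y _ (by omega) hk, D.tr_x _ (by omega) (by omega)]
    simp

theorem μ_v (k : ℕ) (hk1 : 1 ≤ k) (hk : 2 * k ≤ D.n + 1) : D.μ (v σ₁ τ₁ k) = 0 := by
  obtain ⟨j, rfl⟩ : ∃ j, k = j + 1 := ⟨k - 1, by omega⟩
  rw [μ, aeval_v, trace_M D j (by omega)]

theorem μ_Q (h3 : 3 ≤ D.n) : D.μ (Q σ₁ τ₁) = -(σ₁ * τ₁ * (1 + τ₁)) * (Fintype.card X : ℝ) := by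
  have h1 := D.μ_v 1 le_rfl (by have := D.hn; omega)
  rw [v_one, μ_add] at h1
  have e0 : D.μ (C (σ₁ - 1)) = (σ₁ - 1) * (Fintype.card X : ℝ) := by
    rw [← mul_one (C (σ₁ - 1)), μ_C_mul, μ_one]
  rw [e0] at h1
  have h2 : D.μ (v σ₁ τ₁ 2) = 0 := D.μ_v 2 (by norm_num) (by omega)
  rw [v_two, μ_sub, μ_sub, μ_add, μ_C_mul] at h2
  have e1 : D.μ (C (σ₁ * τ₁)) = σ₁ * τ₁ * (Fintype.card X : ℝ) := by
    rw [← mul_one (C (σ₁ * τ₁)), μ_C_mul, μ_one]
  have e2 : D.μ (C σ₁) = σ₁ * (Fintype.card X : ℝ) := by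
    rw [← mul_one (C σ₁), μ_C_mul, μ_one]
  rw [e1, e2] at h2
  have eQ : Q σ₁ τ₁ = Polynomial.X * Polynomial.X + C (σ₁ + τ₁ - (σ₁ * τ₁ + 1)) * Polynomial.X -
      C ((σ₁ * τ₁ + 1) * (σ₁ + τ₁)) * 1 := by
    simp only [Q, map_sub, map_add, map_mul, map_one]
    ring
  rw [eQ, μ_sub, μ_add, μ_C_mul, μ_C_mul, μ_one]
  linear_combination h2 + ((σ₁ + τ₁ - (σ₁ * τ₁ + 1)) - (σ₁ - 1)) * h1

theorem exists_nat_of_isIdempotent (E : Matrix X X ℝ) (hE : E * E = E) :
    ∃ w : ℕ, E.trace = (w : ℝ) := by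
  obtain ⟨p, hp⟩ : ∃ p, LinearMap.IsProj p (Matrix.toLin' E) :=
    ⟨_, LinearMap.isProj_range_iff_isIdempotentElem _ |>.2 (by
      show Matrix.toLin' E * Matrix.toLin' E = Matrix.toLin' E
      rw [Module.End.mul_eq_comp, ← Matrix.toLin'_mul, hE])⟩
  refine ⟨Module.finrank ℝ p, ?_⟩
  rw [← hp.trace, Matrix.trace_toLin'_eq]

/-- If `(X - θ) g` kills `P` and `g θ ≠ 0`, then `μ g` is `g θ * (1 + t)` times a natural
number. -/
theorem exists_weight (g : ℝ[X]) (θ : ℝ) (hann : aeval D.Y ((Polynomial.X - C θ) * g) * D.P = 0)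
    (hg : g.eval θ ≠ 0) : ∃ w : ℕ, D.μ g = (w : ℝ) * g.eval θ * (τ₁ + 1) := by
  have ht : τ₁ + 1 ≠ 0 := by positivity
  obtain ⟨k, hk⟩ := Polynomial.X_sub_C_dvd_sub_C_eval (a := θ) (p := g)
  have hgg : aeval D.Y (g * g) * D.P = g.eval θ • (aeval D.Y g * D.P) := by
    have e : g * g = k * ((Polynomial.X - C θ) * g) + C (g.eval θ) * g := by
      linear_combination g * hk
    rw [e, map_add, map_mul, add_mul, mul_assoc, hann, mul_zero, zero_add, map_mul, aeval_C,
      Algebra.algebraMap_eq_smul_one, smul_mul_assoc, one_mul, smul_mul_assoc]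
  set c := 1 / (g.eval θ * (τ₁ + 1)) with hc
  obtain ⟨w, hw⟩ := exists_nat_of_isIdempotent (c • (aeval D.Y g * D.P)) (by
    rw [smul_mul_assoc, mul_smul_comm, smul_smul]
    have : aeval D.Y g * D.P * (aeval D.Y g * D.P) =
        ((τ₁ + 1) * g.eval θ) • (aeval D.Y g * D.P) := by
      rw [mul_assoc, ← mul_assoc D.P, (D.commute_P_aeval g).eq, mul_assoc (aeval D.Y g), P_mul_P,
        mul_smul_comm, mul_smul_comm, ← mul_assoc, ← map_mul, hgg, smul_smul]
    rw [this, smul_smul]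
    congr 1
    rw [hc]; field_simp)
  refine ⟨w, ?_⟩
  rw [Matrix.trace_smul, smul_eq_mul] at hw
  show (aeval D.Y g * D.P).trace = _
  rw [← hw, hc]
  field_simp

end HeckeRep

end Cfsg.Agent.FeitHigman
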