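import Mathlib.Tactic.Positivity
import Cfsg.Agent.Lib.FeitHigman.Algebra

/-!
# The quadratic equation satisfied by the eigenvalues
-/

set_option autoImplicit false

open Polynomial Matrix

namespace Cfsg.Agent.FeitHigman

namespace HeckeRep

variable {X : Type*} [Fintype X] [DecidableEq X] (D : HeckeRep X)

local notation "σ₁" => (D.s : ℝ)
local notation "τ₁" => (D.t : ℝ)

theorem card_ne_zero (D : HeckeRep X) : (Fintype.card X : ℝ) ≠ 0 := by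
  have := D.hX
  exact_mod_cast Fintype.card_ne_zero

theorem ann_even (d : ℕ) (hn : D.n = 2 * (d + 2)) :
    aeval D.Y (Q σ₁ τ₁ * H (σ₁ * τ₁) (d + 1)) * D.P = 0 := by
  rw [Q_mul_H, map_sub, map_sub, map_mul (aeval D.Y), map_mul (aeval D.Y), aeval_C, aeval_C, sub_mul, sub_mul, mul_assoc,
    mul_assoc, aeval_v, aeval_v, aeval_v, Algebra.algebraMap_eq_smul_one,
    Algebra.algebraMap_eq_smul_one, smul_mul_assoc, one_mul, smul_mul_assoc, one_mul]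
  have h0 : D.R ^ (d + 2) * D.x =
      (σ₁ - 1) • (D.y * (D.R ^ (d + 1) * D.x)) + σ₁ • (D.y * D.R ^ (d + 1)) := by
    have e1 : D.R ^ (d + 2) = D.y * (D.R ^ (d + 1) * D.x) := by
      rw [R, ← pr_odd, ← pr_even, ← hn, D.braid, hn]
      rfl
    rw [e1, mul_assoc, mul_assoc, D.hx, mul_add, mul_smul_comm, mul_smul_comm, mul_one, mul_add,
      mul_smul_comm, mul_smul_comm]
  have h1 : D.R ^ (d + 1) * D.P = τ₁ • (D.R ^ d * (D.x * D.P)) := by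
    rw [pow_succ, R, mul_assoc, mul_assoc, y_mul_P, mul_smul_comm, mul_smul_comm]
  have h2 : D.M (d + 2) = ((σ₁ - 1) * τ₁) • D.M (d + 1) + (σ₁ * τ₁ * τ₁) • D.M d := by
    show D.P * (D.R ^ (d + 2) * (D.x * D.P)) = _
    rw [← mul_assoc (D.R ^ (d + 2)), h0, add_mul, smul_mul_assoc, smul_mul_assoc, mul_assoc D.y,
      mul_assoc D.y, mul_assoc (D.R ^ (d + 1)), mul_add, mul_smul_comm, mul_smul_comm,
      ← mul_assoc D.P D.y, ← mul_assoc D.P D.y, P_mul_y, smul_mul_assoc, smul_mul_assoc, h1,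
      mul_smul_comm]
    simp only [M, smul_smul, mul_assoc]
  rw [h2]
  abel

theorem s_eq_t (d : ℕ) (hn : D.n = 2 * d + 1) : σ₁ = τ₁ := by
  set T := (D.x * D.y) ^ d * D.x with hT
  have hT' : T = (D.y * D.x) ^ d * D.y := by
    rw [hT, ← pr_odd, ← pr_odd, ← hn, D.braid]
  have hsemi : D.x * T = T * D.y := by
    have key : ∀ k, (D.x * D.y) ^ k * D.x = D.x * (D.y * D.x) ^ k := by
      intro k
      induction k with
      | zero => simp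
      | succ k ih =>
        calc (D.x * D.y) ^ (k + 1) * D.x = (D.x * D.y) * ((D.x * D.y) ^ k * D.x) := by
              rw [pow_succ']; noncomm_ring
          _ = D.x * ((D.y * D.x) * (D.y * D.x) ^ k) := by rw [ih]; noncomm_ring
          _ = D.x * (D.y * D.x) ^ (k + 1) := by rw [pow_succ']
    conv_lhs => rw [hT', ← mul_assoc, ← key]
  have hux : IsUnit D.x := by
    have hs : σ₁ ≠ 0 := by have := D.hs; positivity
    refine IsUnit.of_mul_eq_one (σ₁⁻¹ • (D.x - (σ₁ - 1) • (1 : Matrix X X ℝ))) ?_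
    rw [mul_smul_comm, mul_sub, D.hx, mul_smul_comm, mul_one, add_sub_cancel_left, smul_smul,
      inv_mul_cancel₀ hs, one_smul]
  have huy : IsUnit D.y := by
    have ht : τ₁ ≠ 0 := by have := D.ht; positivity
    refine IsUnit.of_mul_eq_one (τ₁⁻¹ • (D.y - (τ₁ - 1) • (1 : Matrix X X ℝ))) ?_
    rw [mul_smul_comm, mul_sub, D.hy, mul_smul_comm, mul_one, add_sub_cancel_left, smul_smul,
      inv_mul_cancel₀ ht, one_smul]
  have huT : IsUnit T := ((hux.mul huy).pow d).mul hux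
  have h1 : D.x * D.x * T = ((τ₁ - 1) • D.x + τ₁ • 1) * T := by
    calc D.x * D.x * T = T * (D.y * D.y) := by
          rw [mul_assoc, hsemi, ← mul_assoc, hsemi, mul_assoc]
      _ = ((τ₁ - 1) • D.x + τ₁ • 1) * T := by
          rw [D.hy, mul_add, mul_smul_comm, mul_smul_comm, mul_one, ← hsemi, add_mul,
            smul_mul_assoc, smul_mul_assoc, one_mul]
  have h2 := huT.mul_right_cancel h1
  rw [D.hx] at h2
  have h3 := congrArg Matrix.trace h2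
  have htx : D.x.trace = 0 := by
    simpa [pr] using D.tr_x 1 le_rfl (by have := D.hn; omega)
  simp [Matrix.trace_add, htx] at h3
  rcases h3 with h3 | h3
  · exact_mod_cast h3
  · exact absurd (by exact_mod_cast h3) D.card_ne_zero

theorem ann_odd (d : ℕ) (hn : D.n = 2 * (d + 2) + 1) :
    aeval D.Y (Q σ₁ τ₁ * (H (σ₁ * τ₁) (d + 2) + C τ₁ * H (σ₁ * τ₁) (d + 1))) * D.P = 0 := by
  have hst := D.s_eq_t _ hn
  have h2 : D.M (d + 2) = (τ₁ * τ₁) • D.M (d + 1) := by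
    show D.P * (D.R ^ (d + 2) * (D.x * D.P)) = _
    have e1 : D.R ^ (d + 2) * D.x = D.y * D.R ^ (d + 2) := by
      rw [R, ← pr_odd, ← hn, D.braid, hn, ← pr_even]
      rfl
    rw [← mul_assoc (D.R ^ (d + 2)), e1, mul_assoc D.y, ← mul_assoc D.P D.y, P_mul_y,
      smul_mul_assoc, pow_succ, R, mul_assoc, mul_assoc, y_mul_P, mul_smul_comm, mul_smul_comm,
      mul_smul_comm, smul_smul]
    rfl
  have h3 : aeval D.Y ((Polynomial.X - C (σ₁ * τ₁ + 1)) *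
      (H (σ₁ * τ₁) (d + 2) + C τ₁ * H (σ₁ * τ₁) (d + 1))) * D.P = 0 := by
    have hv2 := D.aeval_v (d + 2)
    have hv1 := D.aeval_v (d + 1)
    rw [hst] at hv1 hv2 ⊢
    rw [Q_mul_G, map_sub, map_mul (aeval D.Y), aeval_C, sub_mul, mul_assoc, hv1, hv2, h2,
      Algebra.algebraMap_eq_smul_one, smul_mul_assoc, one_mul, sub_self]
  rw [Q, mul_comm (Polynomial.X - C (σ₁ * τ₁ + 1)), mul_assoc, map_mul, mul_assoc, h3, mul_zero]

theorem μ_Q_mul_H (m : ℕ) (hm : 2 * (m + 3) ≤ D.n + 1) :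
    D.μ (Q σ₁ τ₁ * H (σ₁ * τ₁) (m + 1)) = 0 := by
  rw [Q_mul_H, μ_sub, μ_sub, μ_C_mul, μ_C_mul, D.μ_v _ (by omega) hm,
    D.μ_v _ (by omega) (by omega), D.μ_v _ (by omega) (by omega)]
  simp

theorem μ_Q_mul_K (θ : ℝ) (k : ℕ) (hk : 2 * (k + 2) ≤ D.n + 1) :
    D.μ (Q σ₁ τ₁ * K (σ₁ * τ₁) θ (k + 1)) = (H (σ₁ * τ₁) k).eval θ * D.μ (Q σ₁ τ₁) := by
  induction k using Nat.twoStepInduction with
  | zero => simp [K, H]
  | one =>
    have e : Q σ₁ τ₁ * K (σ₁ * τ₁) θ (1 + 1) =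
        Q σ₁ τ₁ * H (σ₁ * τ₁) (0 + 1) + C θ * Q σ₁ τ₁ := by
      simp only [K, H]
      ring
    rw [e, μ_add, D.μ_Q_mul_H 0 (by omega), μ_C_mul]
    simp [H]
  | more k ih1 ih2 =>
    have e : Q σ₁ τ₁ * K (σ₁ * τ₁) θ (k + 2 + 1) =
        Q σ₁ τ₁ * H (σ₁ * τ₁) (k + 1 + 1) + C θ * (Q σ₁ τ₁ * K (σ₁ * τ₁) θ (k + 1 + 1)) -
          C (σ₁ * τ₁) * (Q σ₁ τ₁ * K (σ₁ * τ₁) θ (k + 1)) := by
      simp only [K]
      ring
    rw [e, μ_sub, μ_add, D.μ_Q_mul_H (k + 1) (by omega), μ_C_mul, μ_C_mul, ih1 (by omega),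
      ih2 (by omega), eval_H_add_two]
    ring

theorem eval_Q (θ : ℝ) :
    (Q σ₁ τ₁).eval θ = (θ - (σ₁ * τ₁ + 1)) * (θ + (σ₁ + τ₁)) := by
  simp [Q]

theorem eval_Q_ne (θ : ℝ) (hθ : θ ^ 2 < 4 * (σ₁ * τ₁)) : (Q σ₁ τ₁).eval θ ≠ 0 := by
  rw [eval_Q]
  refine mul_ne_zero (fun h => ?_) (fun h => ?_)
  · rw [sub_eq_zero] at h
    subst h
    nlinarith [sq_nonneg (σ₁ * τ₁ - 1)]
  · have h' : θ = -(σ₁ + τ₁) := by linarith
    subst h'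
    nlinarith [sq_nonneg (σ₁ - τ₁)]

/-- Even case: the quadratic equation of a root. -/
theorem equation_even (d : ℕ) (hn : D.n = 2 * (d + 2)) (θ : ℝ)
    (hθ : (H (σ₁ * τ₁) (d + 1)).eval θ = 0) (hb : θ ^ 2 < 4 * (σ₁ * τ₁)) :
    ∃ w : ℕ, (Fintype.card X : ℝ) * (4 * (σ₁ * τ₁) - θ ^ 2) +
      (D.n : ℝ) * (w : ℝ) * ((θ - (σ₁ * τ₁ + 1)) * (θ + (σ₁ + τ₁))) = 0 := by
  have hu : σ₁ * τ₁ ≠ 0 := by have := D.hs; have := D.ht; positivity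
  have ht : τ₁ + 1 ≠ 0 := by positivity
  have hK := eval_K (σ₁ * τ₁) θ d
  rw [hθ, mul_zero, zero_sub] at hK
  have hh : (H (σ₁ * τ₁) d).eval θ ≠ 0 := fun h => H_ne_zero_pair _ _ hu d ⟨h, hθ⟩
  have hKne : (K (σ₁ * τ₁) θ (d + 1)).eval θ ≠ 0 := by
    intro h
    rw [h, mul_zero, eq_comm, neg_eq_zero] at hK
    exact hh ((mul_eq_zero.1 hK).resolve_left (mul_ne_zero (by positivity) hu))
  obtain ⟨w, hw⟩ := D.exists_weight (Q σ₁ τ₁ * K (σ₁ * τ₁) θ (d + 1)) θ (by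
      rw [mul_left_comm, X_sub_mul_K, hθ, map_zero, sub_zero]
      exact D.ann_even d hn)
    (by rw [eval_mul]; exact mul_ne_zero (D.eval_Q_ne θ hb) hKne)
  refine ⟨w, ?_⟩
  rw [D.μ_Q_mul_K θ d (by omega), D.μ_Q (by omega), eval_mul, eval_Q] at hw
  rw [hn]
  push_cast
  have h0 : (H (σ₁ * τ₁) d).eval θ * (σ₁ * τ₁) * (τ₁ + 1) *
      ((Fintype.card X : ℝ) * (4 * (σ₁ * τ₁) - θ ^ 2) +
        2 * ((d : ℝ) + 2) * (w : ℝ) * ((θ - (σ₁ * τ₁ + 1)) * (θ + (σ₁ + τ₁)))) = 0 := by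
    linear_combination (θ ^ 2 - 4 * (σ₁ * τ₁)) * hw +
      ((w : ℝ) * ((θ - (σ₁ * τ₁ + 1)) * (θ + (σ₁ + τ₁))) * (τ₁ + 1)) * hK
  exact (mul_eq_zero.1 h0).resolve_left (mul_ne_zero (mul_ne_zero hh hu) ht)

/-- Odd case: the quadratic equation of a root. -/
theorem equation_odd (d : ℕ) (hn : D.n = 2 * (d + 2) + 1) (θ : ℝ)
    (hθ : (H (σ₁ * τ₁) (d + 2)).eval θ + τ₁ * (H (σ₁ * τ₁) (d + 1)).eval θ = 0)
    (hb : θ ^ 2 < 4 * (σ₁ * τ₁)) :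
    ∃ w : ℕ, (Fintype.card X : ℝ) * (4 * (σ₁ * τ₁) - θ ^ 2) +
      (D.n : ℝ) * (w : ℝ) * ((θ - (σ₁ * τ₁ + 1)) * (θ + (σ₁ + τ₁))) = 0 := by
  have hQ := D.eval_Q_ne θ hb
  have hμQ := D.μ_Q (by omega)
  have hμK2 := D.μ_Q_mul_K θ (d + 1) (by omega)
  have hμK1 := D.μ_Q_mul_K θ d (by omega)
  have hann := D.ann_odd d hn
  rw [eval_Q] at hQ
  have heQ := D.eval_Q θ
  have hst := D.s_eq_t _ hn
  rw [hst] at hθ hb hQ hμQ hμK2 hμK1 hann heQ ⊢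
  have hτ : τ₁ ≠ 0 := by have := D.ht; positivity
  have hu : τ₁ * τ₁ ≠ 0 := mul_ne_zero hτ hτ
  have ht : τ₁ + 1 ≠ 0 := by positivity
  have hK2 := eval_K (τ₁ * τ₁) θ (d + 1)
  have hK1 := eval_K (τ₁ * τ₁) θ d
  push_cast at hK2
  have hrec := eval_H_add_two (τ₁ * τ₁) θ d
  have hh : (H (τ₁ * τ₁) (d + 1)).eval θ ≠ 0 := fun e => by
    rw [e, mul_zero, add_zero] at hθ
    exact H_ne_zero_pair _ _ hu (d + 1) ⟨e, hθ⟩
  have hθ2 : θ + 2 * τ₁ ≠ 0 := fun e => by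
    rw [show θ = -(2 * τ₁) by linarith] at hb
    nlinarith
  have hlow : τ₁ * τ₁ * (H (τ₁ * τ₁) d).eval θ = (θ + τ₁) * (H (τ₁ * τ₁) (d + 1)).eval θ := by
    linear_combination hrec - hθ
  have hG : (θ ^ 2 - 4 * (τ₁ * τ₁)) *
      ((K (τ₁ * τ₁) θ (d + 2)).eval θ + τ₁ * (K (τ₁ * τ₁) θ (d + 1)).eval θ) =
      -((2 * (d : ℝ) + 5) * τ₁ * (θ + 2 * τ₁) * (H (τ₁ * τ₁) (d + 1)).eval θ) := by
    linear_combination hK2 + τ₁ * hK1 + ((d : ℝ) + 2) * θ * hθ - 2 * ((d : ℝ) + 2) * τ₁ * hlow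
  have hGne : (K (τ₁ * τ₁) θ (d + 2)).eval θ + τ₁ * (K (τ₁ * τ₁) θ (d + 1)).eval θ ≠ 0 := by
    intro h
    rw [h, mul_zero, eq_comm, neg_eq_zero] at hG
    exact mul_ne_zero (mul_ne_zero (mul_ne_zero (by positivity) hτ) hθ2) hh hG
  obtain ⟨w, hw⟩ := D.exists_weight
    (Q τ₁ τ₁ * (K (τ₁ * τ₁) θ (d + 2) + C τ₁ * K (τ₁ * τ₁) θ (d + 1))) θ (by
      have e : (Polynomial.X - C θ) *
          (Q τ₁ τ₁ * (K (τ₁ * τ₁) θ (d + 2) + C τ₁ * K (τ₁ * τ₁) θ (d + 1))) =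
          Q τ₁ τ₁ * (H (τ₁ * τ₁) (d + 2) + C τ₁ * H (τ₁ * τ₁) (d + 1)) := by
        rw [mul_left_comm, mul_add, mul_left_comm (Polynomial.X - C θ), X_sub_mul_K, X_sub_mul_K]
        have h0 : C ((H (τ₁ * τ₁) (d + 2)).eval θ) +
            C τ₁ * C ((H (τ₁ * τ₁) (d + 1)).eval θ) = 0 := by
          rw [← map_mul, ← map_add, hθ, map_zero]
        linear_combination (-Q τ₁ τ₁) * h0
      rw [e]
      exact hann)
    (by
      rw [eval_mul, eval_add, eval_mul, eval_C]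
      exact mul_ne_zero (by rw [heQ]; exact hQ) hGne)
  refine ⟨w, ?_⟩
  rw [mul_add, μ_add, mul_left_comm, μ_C_mul, show d + 2 = d + 1 + 1 from rfl, hμK2, hμK1, hμQ]
    at hw
  simp only [eval_mul, eval_add, eval_C, heQ] at hw
  rw [hn]
  push_cast
  have h0 : τ₁ ^ 2 * (τ₁ + 1) * (θ + 2 * τ₁) * (H (τ₁ * τ₁) (d + 1)).eval θ *
      ((Fintype.card X : ℝ) * (4 * (τ₁ * τ₁) - θ ^ 2) +
        (2 * ((d : ℝ) + 2) + 1) * (w : ℝ) * ((θ - (τ₁ * τ₁ + 1)) * (θ + (τ₁ + τ₁)))) = 0 := by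
    linear_combination (τ₁ * (θ ^ 2 - 4 * (τ₁ * τ₁))) * hw +
      ((w : ℝ) * ((θ - (τ₁ * τ₁ + 1)) * (θ + (τ₁ + τ₁))) * (τ₁ + 1) * τ₁) * hG +
      (τ₁ ^ 2 * (1 + τ₁) * (Fintype.card X : ℝ) * (θ ^ 2 - 4 * (τ₁ * τ₁))) * hlow
  exact (mul_eq_zero.1 h0).resolve_left
    (mul_ne_zero (mul_ne_zero (mul_ne_zero (pow_ne_zero 2 hτ) ht) hθ2) hh)

end HeckeRep

end Cfsg.Agent.FeitHigman
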