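import Mathlib.NumberTheory.Niven
import Mathlib.NumberTheory.Real.Irrational
import Mathlib.RingTheory.Polynomial.Cyclotomic.Roots
import Mathlib.RingTheory.RootsOfUnity.Complex
import Cfsg.Agent.Lib.FeitHigman.Eigen

/-!
# The Feit-Higman theorem for dihedral Hecke representations
-/

set_option autoImplicit false

open Polynomial Matrix Real

namespace Cfsg.Agent.FeitHigman

theorem rat_linear {a b : ℚ} {θ : ℝ} (hθ : ¬ ∃ q : ℚ, θ = q) (h : (a : ℝ) * θ + b = 0) :
    a = 0 ∧ b = 0 := by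
  by_cases ha : a = 0
  · exact ⟨ha, by subst ha; simpa using h⟩
  · refine absurd ⟨-b / a, ?_⟩ hθ
    have : (a : ℝ) ≠ 0 := by exact_mod_cast ha
    push_cast
    field_simp
    linarith

theorem conj_roots {n : ℕ} (hn : 0 < n) (a b c : ℚ) (q : ℚ) (j : ℕ) (hj : Nat.Coprime j n)
    (h : (a : ℝ) * (2 * q * cos (2 * π * (1 : ℕ) / n)) ^ 2 +
      b * (2 * q * cos (2 * π * (1 : ℕ) / n)) + c = 0) :
    (a : ℝ) * (2 * q * cos (2 * π * j / n)) ^ 2 + b * (2 * q * cos (2 * π * j / n)) + c = 0 := by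
  set F : ℚ[X] := Polynomial.C (a * q ^ 2) * (X ^ 2 + 1) ^ 2 +
    Polynomial.C (b * q) * (X ^ 2 + 1) * X + Polynomial.C c * X ^ 2 with hF
  set ζ : ℂ := Complex.exp (2 * π * Complex.I / n) with hζ
  have hprim : IsPrimitiveRoot ζ n := Complex.isPrimitiveRoot_exp n hn.ne'
  have hne : ∀ i : ℕ, ζ ^ i ≠ 0 := fun i => pow_ne_zero i (Complex.exp_ne_zero _)
  have key : ∀ i : ℕ, Polynomial.aeval (ζ ^ i) F = (ζ ^ i) ^ 2 *
      (((a : ℝ) * (2 * q * cos (2 * π * i / n)) ^ 2 + b * (2 * q * cos (2 * π * i / n)) + c : ℝ) : ℂ) := by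
    intro i
    have e1 : ζ ^ i = Complex.exp ((((2 * π * i / n : ℝ)) : ℂ) * Complex.I) := by
      rw [hζ, ← Complex.exp_nat_mul]
      congr 1
      push_cast
      ring
    have e2 : ((2 * cos (2 * π * i / n) : ℝ) : ℂ) = ζ ^ i + (ζ ^ i)⁻¹ := by
      rw [e1, ← Complex.exp_neg, ← neg_mul]
      push_cast
      rw [Complex.two_cos]
    have e3 : ((2 * cos (2 * π * i / n) : ℝ) : ℂ) * ζ ^ i = (ζ ^ i) ^ 2 + 1 := by
      rw [e2, add_mul, inv_mul_cancel₀ (hne i)]
      ring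
    simp only [hF, map_add, map_mul, map_pow, map_one, Polynomial.aeval_X, Polynomial.aeval_C,
      eq_ratCast]
    push_cast at e3 ⊢
    rw [← e3]
    ring
  have h1 : Polynomial.aeval ζ F = 0 := by
    have := key 1
    rw [h] at this
    simpa using this
  have hdvd : cyclotomic n ℚ ∣ F := by
    rw [cyclotomic_eq_minpoly_rat hprim hn]
    exact minpoly.dvd ℚ ζ h1
  have hj0 : Polynomial.aeval (ζ ^ j) (cyclotomic n ℚ) = 0 := by
    rw [cyclotomic_eq_minpoly_rat (hprim.pow_of_coprime j hj) hn]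
    exact minpoly.aeval ℚ _
  obtain ⟨G, hG⟩ := hdvd
  have h2 := key j
  rw [hG, map_mul, hj0, zero_mul, eq_comm, mul_eq_zero] at h2
  rcases h2 with h2 | h2
  · exact absurd h2 (pow_ne_zero 2 (hne j))
  · exact_mod_cast h2

namespace HeckeRep

variable {X : Type*} [Fintype X] [DecidableEq X] (D : HeckeRep X)

local notation "σ₁" => (D.s : ℝ)
local notation "τ₁" => (D.t : ℝ)

theorem u_pos : 0 < σ₁ * τ₁ := by have := D.hs; have := D.ht; positivity

theorem sq_lt_of_sin (r φ : ℝ) (hr : 0 < r) (hs : sin φ ≠ 0) :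
    (2 * r * cos φ) ^ 2 < 4 * r ^ 2 := by
  have h1 : 0 < sin φ ^ 2 := by positivity
  have h2 : 0 < r ^ 2 := by positivity
  nlinarith [Real.sin_sq_add_cos_sq φ]

theorem exists_rat_root (d : ℕ) (hn : D.n = 2 * (d + 2)) (θ : ℝ)
    (hθ : (H (σ₁ * τ₁) (d + 1)).eval θ = 0) (hb : θ ^ 2 < 4 * (σ₁ * τ₁)) : ∃ q : ℚ, θ = q := by
  by_contra hirr
  obtain ⟨w, hw⟩ := D.equation_even d hn θ hθ hb
  obtain ⟨w', hw'⟩ := D.equation_even d hn (-θ) (by rw [H_neg, hθ, mul_zero]) (by simpa using hb)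
  set N := (Fintype.card X : ℚ) with hN
  set m := (D.n : ℚ) with hm
  set s := (D.s : ℚ) with hs
  set t := (D.t : ℚ) with ht
  have hs2 : 2 ≤ s := by rw [hs]; exact_mod_cast D.hs
  have ht2 : 2 ≤ t := by rw [ht]; exact_mod_cast D.ht
  have hN0 : N ≠ 0 := by
    rw [hN]; exact_mod_cast Nat.cast_ne_zero.1 (D.card_ne_zero)
  have hm0 : m ≠ 0 := by rw [hm, hn]; positivity
  have hσ : (s - 1) * (t - 1) ≠ 0 := mul_ne_zero (by linarith) (by linarith)
  have h3 := rat_linear (θ := θ) (a := -m * ((s - 1) * (t - 1)) * ((m * w' - N) * w + (m * w - N) * w'))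
    (b := (w' - w) * (m * N) * (4 * (s * t) - (s * t + 1) * (s + t))) hirr (by
      push_cast [hN, hm, hs, ht]
      linear_combination ((D.n : ℝ) * w' - Fintype.card X) * hw -
        ((D.n : ℝ) * w - Fintype.card X) * hw')
  obtain ⟨h4, h5⟩ := h3
  have h6 : 4 * (s * t) - (s * t + 1) * (s + t) ≠ 0 := by
    nlinarith [mul_le_mul hs2 ht2 (by norm_num) (by linarith)]
  have h7 : (w' : ℚ) = w := by
    rw [mul_eq_zero] at h5
    rcases h5 with h5 | h5
    · rw [mul_eq_zero] at h5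
      rcases h5 with h5 | h5
      · linarith
      · exact absurd h5 (mul_ne_zero hm0 hN0)
    · exact absurd h5 h6
  rw [h7, mul_eq_zero] at h4
  have h8 : (m * w - N) * w = 0 := by
    rcases h4 with h4 | h4
    · exact absurd h4 (mul_ne_zero (neg_ne_zero.2 hm0) hσ)
    · linarith
  rcases mul_eq_zero.1 h8 with h8 | h8
  · have h9 := rat_linear (θ := θ) (a := -N * ((s - 1) * (t - 1)))
      (b := 4 * (s * t) * N - N * ((s * t + 1) * (s + t))) hirr (by
        have : (D.n : ℝ) * w = Fintype.card X := by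
          have h8' := congrArg (fun x : ℚ => (x : ℝ)) h8
          push_cast [hN, hm] at h8'
          linarith
        rw [this] at hw
        push_cast [hN, hs, ht]
        linear_combination hw)
    exact mul_ne_zero (neg_ne_zero.2 hN0) hσ h9.1
  · have h8' : (w : ℝ) = 0 := by exact_mod_cast h8
    rw [h8'] at hw
    simp only [mul_zero, zero_mul, add_zero, mul_eq_zero] at hw
    rcases hw with hw | hw
    · exact D.card_ne_zero hw
    · linarith

theorem even_le (d : ℕ) (hn : D.n = 2 * (d + 2)) : d ≤ 2 := by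
  by_contra hd
  have hu := D.u_pos
  set r := Real.sqrt (σ₁ * τ₁) with hr
  have hr0 : 0 < r := Real.sqrt_pos.2 hu
  have hr2 : r ^ 2 = σ₁ * τ₁ := Real.sq_sqrt hu.le
  have hroot : ∀ j : ℕ, 1 ≤ j → j ≤ d + 1 → ∃ q : ℚ, 2 * r * cos (π * j / (d + 2 : ℕ)) = q := by
    intro j hj1 hj2
    have hs : 0 < sin (π * j / (d + 2 : ℕ)) := by
      refine sin_pos_of_pos_of_lt_pi (by positivity) ?_
      rw [div_lt_iff₀ (by positivity)]
      gcongr
      exact_mod_cast (by omega : j < d + 2)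
    refine D.exists_rat_root d hn _ ?_ ?_
    · have h := H_cos r (π * j / (d + 2 : ℕ)) (d + 1)
      rw [hr2] at h
      have e : (((d + 1 : ℕ) : ℝ) + 1) * (π * j / (d + 2 : ℕ)) = (j : ℕ) * π := by
        push_cast
        field_simp
        ring
      rw [e, sin_nat_mul_pi, mul_zero] at h
      exact (mul_eq_zero.1 h).resolve_right hs.ne'
    · rw [← hr2]
      exact sq_lt_of_sin r _ hr0 hs.ne'
  obtain ⟨q, hq⟩ := hroot 1 le_rfl (by omega)
  have hcos : ∃ p : ℚ, cos (2 * (π * (1 : ℕ) / (d + 2 : ℕ))) = p := by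
    refine ⟨q ^ 2 / (2 * ((D.s : ℚ) * D.t)) - 1, ?_⟩
    rw [Real.cos_two_mul]
    push_cast
    rw [← hq, ← hr2]
    field_simp
    push_cast
    ring
  have hniv := niven ⟨2 / (d + 2 : ℕ), by push_cast; ring⟩ hcos
  have hd5 : (5 : ℝ) ≤ (d + 2 : ℕ) := by exact_mod_cast (by omega : 5 ≤ d + 2)
  set φ := 2 * (π * (1 : ℕ) / (d + 2 : ℕ)) with hφ
  have hφ0 : 0 < φ := by positivity
  have hφ1 : φ < π / 2 := by
    rw [hφ, Nat.cast_one, mul_one, ← mul_div_assoc,
      div_lt_div_iff₀ (by positivity) two_pos]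
    nlinarith [pi_pos]
  have h0 : 0 < cos φ := cos_pos_of_mem_Ioo ⟨by linarith, hφ1⟩
  have h1 : cos φ < 1 := by
    rw [← cos_zero]
    exact strictAntiOn_cos ⟨le_rfl, pi_pos.le⟩ ⟨hφ0.le, by linarith⟩ hφ0
  have hhalf : cos φ = 1 / 2 := by
    simp only [Set.mem_insert_iff, Set.mem_singleton_iff] at hniv
    rcases hniv with h | h | h | h | h <;> linarith
  rw [← cos_pi_div_three] at hhalf
  have hφ3 := strictAntiOn_cos.injOn ⟨hφ0.le, by linarith⟩ ⟨by positivity, by linarith [pi_pos]⟩ hhalf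
  have hd4 : d = 4 := by
    rw [hφ] at hφ3
    field_simp at hφ3
    simp only [Nat.cast_one] at hφ3
    have h6 : (6 : ℝ) = (d + 2 : ℕ) := by linarith
    have : 6 = d + 2 := by exact_mod_cast h6
    omega
  subst hd4
  obtain ⟨q', hq'⟩ := hroot 2 (by norm_num) (by norm_num)
  rw [show π * (1 : ℕ) / ((4 + 2 : ℕ) : ℝ) = π / 6 by norm_num] at hq
  rw [show π * (2 : ℕ) / ((4 + 2 : ℕ) : ℝ) = π / 3 by push_cast; ring, cos_pi_div_three] at hq'
  rw [cos_pi_div_six] at hq
  have h3 : √((3 : ℕ) : ℝ) = ((q / q' : ℚ) : ℝ) := by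
    push_cast
    rw [← hq, ← hq']
    field_simp
  exact (Nat.prime_three.irrational_sqrt).ne_rat _ h3

theorem odd_lt (d : ℕ) (hn : D.n = 2 * (d + 2) + 1) : False := by
  have hst := D.s_eq_t _ hn
  have ht2 : (2 : ℝ) ≤ τ₁ := by exact_mod_cast D.ht
  have hroot : ∀ j : ℕ, 1 ≤ j → j ≤ d + 2 → sin (2 * π * j / D.n) ≠ 0 ∧
      (H (σ₁ * τ₁) (d + 2)).eval (2 * τ₁ * cos (2 * π * j / D.n)) +
        τ₁ * (H (σ₁ * τ₁) (d + 1)).eval (2 * τ₁ * cos (2 * π * j / D.n)) = 0 := by
    intro j hj1 hj2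
    have hs : 0 < sin (2 * π * j / D.n) := by
      have : 0 < D.n := by omega
      refine sin_pos_of_pos_of_lt_pi (by positivity) ?_
      rw [div_lt_iff₀ (by positivity), mul_comm 2 π, mul_assoc]
      gcongr
      exact_mod_cast (by omega : 2 * j < D.n)
    refine ⟨hs.ne', ?_⟩
    rw [hst, ← sq]
    have h2 := H_cos τ₁ (2 * π * j / D.n) (d + 2)
    have h1 := H_cos τ₁ (2 * π * j / D.n) (d + 1)
    have e : (((d + 2 : ℕ) : ℝ) + 1) * (2 * π * j / D.n) =
        (j : ℕ) * (2 * π) - (((d + 1 : ℕ) : ℝ) + 1) * (2 * π * j / D.n) := by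
      rw [hn]
      push_cast
      field_simp
      ring
    rw [e, sin_nat_mul_two_pi_sub] at h2
    have h0 : ((H (τ₁ ^ 2) (d + 2)).eval (2 * τ₁ * cos (2 * π * j / D.n)) +
        τ₁ * (H (τ₁ ^ 2) (d + 1)).eval (2 * τ₁ * cos (2 * π * j / D.n))) *
        sin (2 * π * j / D.n) = 0 := by
      linear_combination h2 + τ₁ * h1
    exact (mul_eq_zero.1 h0).resolve_right hs.ne'
  obtain ⟨hs1, hr1⟩ := hroot 1 le_rfl (by omega)
  obtain ⟨w, hw⟩ := D.equation_odd d hn _ hr1 (by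
    rw [hst, ← sq]; exact sq_lt_of_sin _ _ (by linarith) hs1)
  set q := (D.t : ℚ) with hq
  set N := (Fintype.card X : ℚ) with hN
  set A : ℚ := (D.n : ℚ) * w - N with hA
  set B : ℚ := -((D.n : ℚ) * w * ((q - 1) * (q - 1))) with hB
  set C₀ : ℚ := 4 * (q * q) * N - (D.n : ℚ) * w * ((q * q + 1) * (q + q)) with hC
  have hN0 : N ≠ 0 := by rw [hN]; exact_mod_cast Nat.cast_ne_zero.1 (D.card_ne_zero)
  have hq2 : 2 ≤ q := by rw [hq]; exact_mod_cast D.ht
  have h1 : (A : ℝ) * (2 * (q : ℝ) * cos (2 * π * (1 : ℕ) / D.n)) ^ 2 +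
      B * (2 * (q : ℝ) * cos (2 * π * (1 : ℕ) / D.n)) + C₀ = 0 := by
    rw [hst] at hw
    push_cast [hA, hB, hC, hq, hN] at hw ⊢
    linear_combination hw
  have hcj : ∀ j : ℕ, Nat.Coprime j D.n →
      (A : ℝ) * (2 * (q : ℝ) * cos (2 * π * j / D.n)) ^ 2 +
      B * (2 * (q : ℝ) * cos (2 * π * j / D.n)) + C₀ = 0 :=
    fun j hj => conj_roots (by omega) A B C₀ q j hj h1
  have hqτ : (q : ℝ) = τ₁ := by rw [hq]; norm_num
  set c : ℕ → ℝ := fun j => 2 * (q : ℝ) * cos (2 * π * j / D.n) with hc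
  have hinj : ∀ i j : ℕ, i < j → j ≤ d + 2 → c i ≠ c j := by
    intro i j hij hj he
    have hq0 : (2 * (q : ℝ)) ≠ 0 := by rw [hqτ]; linarith
    have h := mul_left_cancel₀ hq0 he
    have hmem : ∀ k : ℕ, k ≤ d + 2 → 2 * π * (k : ℝ) / D.n ∈ Set.Icc 0 π := by
      intro k hk
      refine ⟨by positivity, ?_⟩
      have : 0 < D.n := by omega
      rw [div_le_iff₀ (by positivity), mul_comm 2 π, mul_assoc]
      gcongr
      exact_mod_cast (by omega : 2 * k ≤ D.n)
    have h' := strictAntiOn_cos.injOn (hmem i (by omega)) (hmem j hj) h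
    have hne : (D.n : ℝ) ≠ 0 := by rw [hn]; positivity
    have : (i : ℝ) = j := by
      have := pi_pos
      field_simp at h'
      linarith
    exact absurd (by exact_mod_cast this : i = j) (by omega)
  have hco2 : Nat.Coprime 2 D.n := by
    rw [hn, Nat.coprime_two_left]; exact ⟨d + 2, rfl⟩
  have e1 := hcj 1 (Nat.coprime_one_left _)
  have e2 := hcj 2 hco2
  have hsum : (A : ℝ) * (c 1 + c 2) + B = 0 := by
    have h : ((A : ℝ) * (c 1 + c 2) + B) * (c 1 - c 2) = 0 := by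
      simp only [hc]
      linear_combination e1 - e2
    exact (mul_eq_zero.1 h).resolve_right (sub_ne_zero.2 (hinj 1 2 (by norm_num) (by omega)))
  rcases Nat.eq_zero_or_pos d with hd | hd
  · subst hd
    obtain ⟨-, g1⟩ := hroot 1 le_rfl (by norm_num)
    obtain ⟨-, g2⟩ := hroot 2 (by norm_num) (by norm_num)
    rw [hst] at g1 g2
    simp only [H, eval_sub, eval_mul, eval_X, eval_C, eval_one, mul_one] at g1 g2
    rw [← hqτ] at g1 g2
    have hs : c 1 + c 2 = -(q : ℝ) := by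
      have h : (c 1 + c 2 + q) * (c 1 - c 2) = 0 := by
        simp only [hc]
        linear_combination g1 - g2
      have := (mul_eq_zero.1 h).resolve_right (sub_ne_zero.2 (hinj 1 2 (by norm_num) (by norm_num)))
      linarith
    rw [hs] at hsum
    have hC' : (C₀ : ℝ) = -(A : ℝ) * (q * q) := by
      linear_combination e1 - (A : ℝ) * g1 - 2 * (q : ℝ) * cos (2 * π * (1 : ℕ) / D.n) * hsum
    have hB' : B = A * q := by
      have : (B : ℝ) = ((A * q : ℚ) : ℝ) := by push_cast; linarith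
      exact_mod_cast this
    have hC'' : C₀ = -A * (q * q) := by
      have : (C₀ : ℝ) = ((-A * (q * q) : ℚ) : ℝ) := by push_cast; exact hC'
      exact_mod_cast this
    rw [hA, hB, hn] at hB'
    rw [hA, hC, hn] at hC''
    push_cast at hB' hC''
    have e5 : 5 * (w : ℚ) * (q * (q - 1) ^ 2) = 0 := by
      linear_combination (-3 * q) * hB' + hC''
    have hw0 : (w : ℚ) = 0 := by
      rcases mul_eq_zero.1 e5 with h | h
      · linarith
      · exact absurd h (mul_ne_zero (by linarith) (pow_ne_zero 2 (by linarith)))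
    rw [hw0] at hB'
    have : N * q = 0 := by linarith
    rcases mul_eq_zero.1 this with h | h
    · exact hN0 h
    · linarith
  · have hcod : Nat.Coprime (d + 2) D.n := by
      rw [hn, Nat.coprime_comm, show 2 * (d + 2) + 1 = 1 + (d + 2) * 2 by ring]
      simp
    have e3 := hcj (d + 2) hcod
    have hA0 : (A : ℝ) = 0 := by
      have h : (A : ℝ) * (c 2 - c (d + 2)) * (c 1 - c (d + 2)) = 0 := by
        simp only [hc] at hsum ⊢
        linear_combination (2 * (q : ℝ) * cos (2 * π * (1 : ℕ) / D.n) -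
          2 * (q : ℝ) * cos (2 * π * (d + 2 : ℕ) / D.n)) * hsum - (e1 - e3)
      rcases mul_eq_zero.1 h with h | h
      · exact (mul_eq_zero.1 h).resolve_right (sub_ne_zero.2 (hinj 2 (d + 2) (by omega) le_rfl))
      · exact absurd h (sub_ne_zero.2 (hinj 1 (d + 2) (by omega) le_rfl))
    rw [hA0, zero_mul, zero_add] at hsum
    have hA' : A = 0 := by exact_mod_cast hA0
    have hB' : B = 0 := by exact_mod_cast hsum
    rw [hA, sub_eq_zero] at hA'
    rw [hB, hA', neg_eq_zero] at hB'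
    exact mul_ne_zero hN0 (mul_ne_zero (by linarith) (by linarith)) hB'

/-- The Feit-Higman theorem. -/
theorem n_mem : D.n ∈ ({2, 3, 4, 6, 8} : Set ℕ) := by
  simp only [Set.mem_insert_iff, Set.mem_singleton_iff]
  have := D.hn
  rcases Nat.even_or_odd' D.n with ⟨m, hm | hm⟩
  · by_cases h : m ≤ 1
    · omega
    · have h2 := D.even_le (m - 2) (by omega)
      omega
  · by_cases h : m ≤ 1
    · omega
    · exact (D.odd_lt (m - 2) (by omega)).elim

end HeckeRep

end Cfsg.Agent.FeitHigman
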