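import Mathlib.GroupTheory.OrderOfElement
import Mathlib.GroupTheory.GroupAction.Quotient
import Mathlib.LinearAlgebra.Matrix.Trace
import Cfsg.Agent.Lib.Lie.BNPair
import Cfsg.Agent.Lib.FeitHigman.Arith

/-!
# The Hecke representation of a finite BN-pair of rank two
-/

set_option autoImplicit false

open Cfsg.Agent.BN

namespace Cfsg.Agent.FeitHigman

section Dihedral

variable {W : Type*} [Group W] {a b : W} (ha : a * a = 1) (hb : b * b = 1)

include ha hb in
theorem mul_swap_eq_inv : b * a = (a * b)⁻¹ := by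
  rw [mul_inv_rev, inv_eq_of_mul_eq_one_right ha, inv_eq_of_mul_eq_one_right hb]

include ha hb in
theorem not_mem_zpowers (ha1 : a ≠ 1) (hb1 : b ≠ 1) (hab : a ≠ b) (m : ℤ) : (a * b) ^ m ≠ a := by
  intro h
  have hc : Commute a (a * b) := by
    have := (Commute.refl (a * b)).zpow_left m
    rwa [h] at this
  have hc' : a * b = b * a := by
    have h2 : a * (a * b) = a * b * a := hc.eq
    rw [← mul_assoc, ha, one_mul] at h2
    calc a * b = a * (a * b * a) := by rw [← h2]
      _ = b * a := by rw [← mul_assoc, ← mul_assoc, ha, one_mul]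
  have hr : (a * b) * (a * b) = 1 := by
    nth_rw 2 [hc']
    rw [mul_assoc, ← mul_assoc b, hb, one_mul, ha]
  rcases Int.even_or_odd' m with ⟨k, rfl | rfl⟩
  · rw [zpow_mul, zpow_two, hr, one_zpow] at h
    exact ha1 h.symm
  · rw [zpow_add, zpow_mul, zpow_two, hr, one_zpow, zpow_one, one_mul, mul_eq_left] at h
    exact hb1 h

include ha hb in
theorem pr_eq (k : ℕ) : ∃ i : ℕ, (k = 2 * i ∧ pr a b k = (a * b) ^ (i : ℤ) ∧
      pr b a k = (a * b) ^ (-(i : ℤ))) ∨
    (k = 2 * i + 1 ∧ pr a b k = (a * b) ^ (i : ℤ) * a ∧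
      pr b a k = (a * b) ^ (-(i : ℤ) - 1) * a) := by
  rcases Nat.even_or_odd' k with ⟨i, rfl | rfl⟩
  · refine ⟨i, Or.inl ⟨rfl, ?_, ?_⟩⟩
    · rw [pr_even, zpow_natCast]
    · rw [pr_even, mul_swap_eq_inv ha hb, inv_pow, _root_.zpow_neg, zpow_natCast]
  · refine ⟨i, Or.inr ⟨rfl, ?_, ?_⟩⟩
    · rw [pr_odd, zpow_natCast]
    · rw [pr_odd, mul_swap_eq_inv ha hb, inv_pow, zpow_sub_one, _root_.zpow_neg, zpow_natCast,
        mul_assoc]
      congr 1
      rw [mul_inv_rev, inv_eq_of_mul_eq_one_right ha, inv_eq_of_mul_eq_one_right hb, mul_assoc, ha,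
        mul_one]

include ha hb in
theorem braid_pr : pr a b (orderOf (a * b)) = pr b a (orderOf (a * b)) := by
  obtain ⟨i, ⟨hi, h1, h2⟩ | ⟨hi, h1, h2⟩⟩ := pr_eq ha hb (orderOf (a * b))
  · rw [h1, h2]
    calc (a * b) ^ (i : ℤ) = (a * b) ^ (-(i : ℤ)) * (a * b) ^ (2 * (i : ℤ)) := by
          rw [← zpow_add]; congr 1; ring
      _ = _ := by
          rw [show 2 * (i : ℤ) = ((orderOf (a * b) : ℕ) : ℤ) by rw [hi]; push_cast; ring,
            zpow_natCast, pow_orderOf_eq_one, mul_one]
  · rw [h1, h2]
    congr 1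
    calc (a * b) ^ (i : ℤ) = (a * b) ^ (-(i : ℤ) - 1) * (a * b) ^ (2 * (i : ℤ) + 1) := by
          rw [← zpow_add]; congr 1; ring
      _ = _ := by
          rw [show 2 * (i : ℤ) + 1 = ((orderOf (a * b) : ℕ) : ℤ) by rw [hi]; push_cast; ring,
            zpow_natCast, pow_orderOf_eq_one, mul_one]

include ha hb in
theorem pr_ne (ha1 : a ≠ 1) (hb1 : b ≠ 1) (hab : a ≠ b) {j k : ℕ} (hjk : j < k)
    (hk : k ≤ orderOf (a * b)) : pr a b k ≠ pr a b j ∧ pr a b k ≠ pr b a j := by
  have hz : ∀ z : ℤ, (a * b) ^ z = 1 → z.natAbs < orderOf (a * b) → z = 0 := by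
    intro z h hlt
    have := orderOf_dvd_iff_zpow_eq_one.2 h
    have h2 := Int.natCast_dvd.1 this
    by_contra hz0
    have := Nat.le_of_dvd (Int.natAbs_pos.2 hz0) h2
    omega
  have hn := not_mem_zpowers ha hb ha1 hb1 hab
  have hmix : ∀ x y : ℤ, (a * b) ^ x ≠ (a * b) ^ y * a := by
    intro x y h
    exact hn (-y + x) (by rw [zpow_add, h, _root_.zpow_neg, inv_mul_cancel_left])
  have heq : ∀ x y : ℤ, (x - y).natAbs < orderOf (a * b) → (a * b) ^ x = (a * b) ^ y → x = y := by
    intro x y h1 h2
    have := hz (x - y) (by rw [zpow_sub, h2, mul_inv_cancel]) h1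
    omega
  obtain ⟨i, ⟨hi, h1, -⟩ | ⟨hi, h1, -⟩⟩ := pr_eq ha hb k <;>
    obtain ⟨i', ⟨hi', h1', h2'⟩ | ⟨hi', h1', h2'⟩⟩ := pr_eq ha hb j <;>
    rw [h1, h1', h2']
  · constructor <;> intro h <;> have := heq _ _ (by omega) h <;> omega
  · exact ⟨hmix _ _, hmix _ _⟩
  · exact ⟨(hmix _ _).symm, (hmix _ _).symm⟩
  · constructor <;> intro h <;> have := heq _ _ (by omega) (mul_right_cancel h) <;> omega

include ha hb in
theorem card_eq (ha1 : a ≠ 1) (hb1 : b ≠ 1) (hab : a ≠ b) (hgen : Subgroup.closure {a, b} = ⊤) :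
    Nat.card W = 2 * orderOf (a * b) := by
  set Z := Subgroup.zpowers (a * b) with hZ
  have hnot : a ∉ Z := fun h => by
    obtain ⟨m, hm⟩ := Subgroup.mem_zpowers_iff.1 h
    exact not_mem_zpowers ha hb ha1 hb1 hab m hm
  have hconj : ∀ z ∈ Z, a * z * a ∈ Z := by
    intro z hz
    obtain ⟨m, rfl⟩ := Subgroup.mem_zpowers_iff.1 hz
    have h : a * (a * b) ^ m * a⁻¹ = (a * (a * b) * a⁻¹) ^ m := (conj_zpow).symm
    rw [inv_eq_of_mul_eq_one_right ha, ← mul_assoc a a, ha, one_mul, mul_swap_eq_inv ha hb] at h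
    rw [h]
    exact Z.zpow_mem (Z.inv_mem (Subgroup.mem_zpowers _)) m
  have hcover : ∀ w : W, w ∈ Z ∨ a * w ∈ Z := by
    let H : Subgroup W :=
      { carrier := {w | w ∈ Z ∨ a * w ∈ Z}
        one_mem' := Or.inl Z.one_mem
        mul_mem' := by
          rintro x y (hx | hx) (hy | hy)
          · exact Or.inl (Z.mul_mem hx hy)
          · right
            have := Z.mul_mem (hconj x hx) hy
            rwa [mul_assoc (a * x), ← mul_assoc a a, ha, one_mul, mul_assoc] at this
          · right
            rw [← mul_assoc]; exact Z.mul_mem hx hy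
          · left
            have := Z.mul_mem (hconj _ hx) hy
            rwa [← mul_assoc a a, ha, one_mul, mul_assoc x a, ← mul_assoc a a, ha, one_mul] at this
        inv_mem' := by
          rintro x (hx | hx)
          · exact Or.inl (Z.inv_mem hx)
          · right
            have := hconj _ (Z.inv_mem hx)
            rwa [mul_inv_rev, inv_eq_of_mul_eq_one_right ha, mul_assoc, mul_assoc, ha, mul_one] at this }
    have hle : Subgroup.closure {a, b} ≤ H := by
      rw [Subgroup.closure_le]
      rintro x (rfl | rfl)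
      · right; rw [ha]; exact Z.one_mem
      · right; exact Subgroup.mem_zpowers _
    rw [hgen] at hle
    exact fun w => hle (Subgroup.mem_top w)
  have hidx : Z.index = 2 := by
    refine Subgroup.index_eq_two_iff.2 ⟨a, fun w => ?_⟩
    rcases hcover w with h | h
    · refine Or.inr ⟨h, fun hwa => hnot ?_⟩
      simpa using Z.mul_mem (Z.inv_mem h) hwa
    · refine Or.inl ⟨?_, fun hw => hnot ?_⟩
      · have := hconj _ h
        rwa [← mul_assoc, ha, one_mul] at this
      · have := Z.mul_mem h (Z.inv_mem hw)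
        simpa using this
  rw [← Z.card_mul_index, hidx, hZ, Nat.card_zpowers, mul_comm]

end Dihedral

variable {G : Type*} [Group G] (P : Cfsg.BNPair G)

/-- The relative position of two cosets of `B`. -/
noncomputable def rel (i j : G ⧸ P.B) : G := (Quotient.out i)⁻¹ * Quotient.out j

theorem rel_inv (i j : G ⧸ P.B) : (rel P i j)⁻¹ = rel P j i := by simp [rel]

theorem rel_mul (i j k : G ⧸ P.B) : rel P i j * rel P j k = rel P i k := by simp [rel, mul_assoc]

theorem eq_of_rel_mem {i j : G ⧸ P.B} (h : rel P i j ∈ P.B) : i = j := by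
  rw [← QuotientGroup.out_eq' i, ← QuotientGroup.out_eq' j, QuotientGroup.eq]
  exact h

/-- The `0-1` matrix of a Bruhat cell. -/
noncomputable def T (w : W P) : Matrix (G ⧸ P.B) (G ⧸ P.B) ℝ :=
  open Classical in Matrix.of fun i j => if rel P i j ∈ cell P w then 1 else 0

theorem mem_cell_one {g : G} : g ∈ cell P 1 ↔ g ∈ P.B := by rw [cell_one]; rfl

theorem T_one [DecidableEq (G ⧸ P.B)] : T P 1 = 1 := by
  classical
  ext i j
  simp only [T, Matrix.of_apply, Matrix.one_apply]
  by_cases h : i = j
  · subst h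
    rw [if_pos rfl, if_pos]
    rw [mem_cell_one, rel, inv_mul_cancel]
    exact P.B.one_mem
  · rw [if_neg h, if_neg (fun hr => h (eq_of_rel_mem P ((mem_cell_one P).1 hr)))]

variable [Fintype (G ⧸ P.B)] [DecidableEq (G ⧸ P.B)]

theorem trace_T {w : W P} (hw : w ≠ 1) : (T P w).trace = 0 := by
  refine Finset.sum_eq_zero fun i _ => ?_
  simp only [Matrix.diag, T, Matrix.of_apply, ite_eq_right_iff]
  intro h
  have h1 : rel P i i ∈ cell P 1 := by
    rw [cell_one, rel, inv_mul_cancel]; exact P.B.one_mem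
  exact absurd (eq_of_mem_cell P h h1) hw

theorem mul_apply_eq (v w : W P) (i k : G ⧸ P.B) :
    (T P v * T P w) i k =
      (Nat.card {j : G ⧸ P.B // rel P i j ∈ cell P v ∧ rel P j k ∈ cell P w} : ℝ) := by
  classical
  rw [Matrix.mul_apply, Nat.card_eq_fintype_card, Fintype.card_subtype,
    Finset.card_eq_sum_ones, Nat.cast_sum, Finset.sum_filter]
  refine Finset.sum_congr rfl fun j _ => ?_
  simp only [T, Matrix.of_apply]
  by_cases h1 : rel P i j ∈ cell P v <;> by_cases h2 : rel P j k ∈ cell P w <;> simp [h1, h2]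

theorem T_mul (s : P.S) (w : W P) (hle : len P w ≤ len P (σ P s * w)) :
    T P (σ P s) * T P w = T P (σ P s * w) := by
  classical
  ext i k
  rw [mul_apply_eq]
  simp only [T, Matrix.of_apply]
  by_cases hik : rel P i k ∈ cell P (σ P s * w)
  · rw [if_pos hik]
    norm_cast
    rw [Nat.card_eq_one_iff_unique]
    refine ⟨⟨fun ⟨j, hj1, hj2⟩ ⟨j', hj1', hj2'⟩ => Subtype.ext ?_⟩, ?_⟩
    · have h1 : (rel P i j)⁻¹ ∈ cell P (σ P s) := by simpa [σ_inv] using cell_inv P hj1
      have h := mul_mem_cell P s (σ P s) h1 hj1'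
      rw [rel_inv, rel_mul, σ_mul_self, cell_one] at h
      rcases h with h | h
      · exact eq_of_rel_mem P h
      · have h' := mul_mem_cell_of_le P s w hle h hj2'
        rw [rel_mul] at h'
        have := eq_of_mem_cell P hj2 h'
        exact absurd (mul_eq_right.1 this.symm) (σ_ne_one P s)
    · obtain ⟨n, hn, rfl⟩ := exists_rep P w
      rw [σ, ← wmk_mul P (P.subset s.2) hn, cell_mk] at hik
      obtain ⟨c, hc, d, hd, he⟩ := DoubleCoset.mem_doubleCoset.1 hik
      obtain ⟨β, hβ⟩ := QuotientGroup.mk_out_eq_mul P.B (Quotient.out i * (c * (s : G)))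
      refine ⟨⟨QuotientGroup.mk (Quotient.out i * (c * (s : G))), ?_, ?_⟩⟩
      · rw [rel, hβ, mul_assoc (Quotient.out i), inv_mul_cancel_left]
        · exact cell_mul_right P β.2 (cell_mul_left P hc (self_mem_cell_σ P s))
      · have e : rel P (QuotientGroup.mk (Quotient.out i * (c * (s : G)))) k =
            (β : G)⁻¹ * n * d := by
          rw [rel, hβ]
          have hk : Quotient.out k = Quotient.out i * rel P i k := by simp [rel]
          rw [hk, he]
          group
        rw [e, cell_mk]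
        exact DoubleCoset.mem_doubleCoset.2 ⟨_, P.B.inv_mem β.2, d, hd, rfl⟩
  · rw [if_neg hik]
    norm_cast
    rw [Nat.card_eq_zero]
    refine Or.inl ⟨fun ⟨j, h1, h2⟩ => hik ?_⟩
    have := mul_mem_cell_of_le P s w hle h1 h2
    rwa [rel_mul] at this

/-- The parameter of a distinguished generator. -/
noncomputable def par (s : P.S) : ℕ :=
  Nat.card {j : G ⧸ P.B // Quotient.out j ∈ cell P (σ P s)}

theorem card_nbr (s : P.S) (i : G ⧸ P.B) :
    Nat.card {j : G ⧸ P.B // rel P i j ∈ cell P (σ P s)} = par P s := by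
  refine Nat.card_congr (Equiv.subtypeEquiv (MulAction.toPerm (Quotient.out i)⁻¹) fun j => ?_)
  obtain ⟨j, rfl⟩ : ∃ x, QuotientGroup.mk x = j := ⟨_, QuotientGroup.out_eq' j⟩
  simp only [MulAction.toPerm_apply, MulAction.Quotient.smul_mk, smul_eq_mul, rel]
  obtain ⟨β, hβ⟩ := QuotientGroup.mk_out_eq_mul P.B j
  obtain ⟨γ, hγ⟩ := QuotientGroup.mk_out_eq_mul P.B ((Quotient.out i)⁻¹ * j)
  rw [hβ, hγ]
  constructor
  · intro h
    have := cell_mul_right P (P.B.mul_mem (P.B.inv_mem β.2) γ.2) h
    convert this using 1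
    group
  · intro h
    have := cell_mul_right P (P.B.mul_mem (P.B.inv_mem γ.2) β.2) h
    convert this using 1
    group

theorem T_sq (s : P.S) :
    T P (σ P s) * T P (σ P s) =
      ((par P s : ℝ) - 1) • T P (σ P s) + (par P s : ℝ) • (1 : Matrix (G ⧸ P.B) (G ⧸ P.B) ℝ) := by
  classical
  ext i k
  rw [mul_apply_eq, Matrix.add_apply, Matrix.smul_apply, Matrix.smul_apply, Matrix.one_apply]
  simp only [T, Matrix.of_apply, smul_eq_mul]
  by_cases hik : i = k
  · subst hik
    have h0 : rel P i i ∉ cell P (σ P s) := by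
      intro h
      have h1 : rel P i i ∈ cell P 1 := by
        rw [cell_one, rel, inv_mul_cancel]; exact P.B.one_mem
      exact σ_ne_one P s (eq_of_mem_cell P h h1)
    rw [if_neg h0, if_pos rfl, mul_zero, zero_add, mul_one]
    norm_cast
    rw [← card_nbr P s i]
    refine Nat.card_congr (Equiv.subtypeEquivRight fun j => ⟨And.left, fun h => ⟨h, ?_⟩⟩)
    simpa [σ_inv, rel_inv] using cell_inv P h
  · rw [if_neg hik, mul_zero, add_zero]
    by_cases hs : rel P i k ∈ cell P (σ P s)
    · rw [if_pos hs, mul_one, ← card_nbr P s i, Nat.card_eq_fintype_card, Nat.card_eq_fintype_card,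
        Fintype.card_subtype, Fintype.card_subtype]
      have hset : (Finset.univ.filter fun j => rel P i j ∈ cell P (σ P s) ∧
          rel P j k ∈ cell P (σ P s)) =
          (Finset.univ.filter fun j => rel P i j ∈ cell P (σ P s)).erase k := by
        ext j
        simp only [Finset.mem_filter, Finset.mem_univ, true_and, Finset.mem_erase]
        refine ⟨fun ⟨h1, h2⟩ => ⟨?_, h1⟩, fun ⟨hjk, h1⟩ => ⟨h1, ?_⟩⟩
        · rintro rfl
          have h3 : rel P j j ∈ cell P 1 := by
            rw [cell_one, rel, inv_mul_cancel]; exact P.B.one_mem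
          exact σ_ne_one P s (eq_of_mem_cell P h2 h3)
        · have h2 : (rel P i j)⁻¹ ∈ cell P (σ P s) := by simpa [σ_inv] using cell_inv P h1
          have h := mul_mem_cell P s (σ P s) h2 hs
          rw [rel_inv, rel_mul, σ_mul_self, cell_one] at h
          rcases h with h | h
          · exact absurd (eq_of_rel_mem P h) hjk
          · exact h
      rw [hset, Finset.card_erase_of_mem (by simp [hs])]
      rw [Nat.cast_sub (Finset.card_pos.2 ⟨k, by simp [hs]⟩)]
      simp
    · rw [if_neg hs, mul_zero]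
      norm_cast
      rw [Nat.card_eq_zero]
      refine Or.inl ⟨fun ⟨j, h1, h2⟩ => ?_⟩
      have h := mul_mem_cell P s (σ P s) h1 h2
      rw [rel_mul, σ_mul_self, cell_one] at h
      rcases h with h | h
      · exact hik (eq_of_rel_mem P h)
      · exact hs h

theorem two_le_par (s : P.S) : 2 ≤ par P s := by
  classical
  obtain ⟨b, hb, hbs⟩ := exists_sq_mem P s
  have hmem : ∀ x ∈ cell P (σ P s),
      Quotient.out (QuotientGroup.mk x : G ⧸ P.B) ∈ cell P (σ P s) := by
    intro x hx
    obtain ⟨β, hβ⟩ := QuotientGroup.mk_out_eq_mul P.B x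
    rw [hβ]
    exact cell_mul_right P β.2 hx
  have hne : (QuotientGroup.mk (s : G)⁻¹ : G ⧸ P.B) ≠ QuotientGroup.mk (b * s) := by
    rw [Ne, QuotientGroup.eq, inv_inv, ← mul_assoc]
    intro h
    exact σ_ne_one P s (eq_of_mem_cell P hbs (by rw [cell_one]; exact h))
  have : Nontrivial {j : G ⧸ P.B // Quotient.out j ∈ cell P (σ P s)} :=
    ⟨⟨_, hmem _ (inv_mem_cell_σ P s)⟩, ⟨_, hmem _ (cell_mul_left P hb (self_mem_cell_σ P s))⟩,
      fun h => hne (congrArg Subtype.val h)⟩
  rw [par, Nat.card_eq_fintype_card]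
  exact Fintype.one_lt_card

/-- The Feit-Higman theorem for BN-pairs. -/
theorem index_mem [Finite G] (h2 : P.rank = 2) :
    Nat.card (W P) ∈ ({4, 6, 8, 12, 16} : Set ℕ) := by
  obtain ⟨a, b, hab, hall⟩ : ∃ a b : P.S, a ≠ b ∧ ∀ s : P.S, s = a ∨ s = b := by
    obtain ⟨a, b, hne, huniv⟩ := Nat.card_eq_two_iff.1 h2
    refine ⟨a, b, hne, fun s => ?_⟩
    have : s ∈ ({a, b} : Set P.S) := by rw [huniv]; trivial
    simpa using this
  set n := orderOf (σ P a * σ P b) with hn
  have hgen : Subgroup.closure {σ P a, σ P b} = ⊤ := by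
    refine (Subgroup.eq_top_iff' _).2 fun w => ?_
    obtain ⟨l, rfl⟩ := exists_word P w
    induction l with
    | nil => exact one_mem _
    | cons s l ih =>
      rw [wp_cons]
      refine mul_mem (Subgroup.subset_closure ?_) ih
      rcases hall s with rfl | rfl <;> simp
  have hσ : σ P a ≠ σ P b := fun h => hab (σ_inj P h)
  have hclass : ∀ j, ∀ w, len P w = j →
      w = pr (σ P a) (σ P b) j ∨ w = pr (σ P b) (σ P a) j := by
    intro j
    induction j using Nat.strong_induction_on with
    | _ j ih =>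
      intro w hw
      obtain ⟨l, hl, rfl⟩ := exists_reduced P w
      cases l with
      | nil =>
        obtain rfl : j = 0 := by rw [← hw, ← hl]; rfl
        left; simp [pr]
      | cons s l =>
        simp only [List.length_cons] at hl
        have h1 := len_wp_le P l
        have h2 := len_σ_mul_le P s (wp P l)
        rw [← wp_cons] at h2
        obtain ⟨i, rfl⟩ : ∃ i, j = i + 1 := ⟨l.length, by omega⟩
        have hli : len P (wp P l) = i := by omega
        have hbad : ∀ u v : P.S, wp P l = pr (σ P u) (σ P v) i → s = u → i = 0 := by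
          rintro u v hu rfl
          by_contra hi
          obtain ⟨i', rfl⟩ : ∃ i', i = i' + 1 := ⟨i - 1, by omega⟩
          have e : wp P (s :: l) = pr (σ P v) (σ P s) i' := by
            rw [wp_cons, hu]; exact σ_cancel P s _
          have hle : ∀ x y : P.S, ∀ k, len P (pr (σ P x) (σ P y) k) ≤ k := by
            intro x y k
            induction k generalizing x y with
            | zero => simp [pr]
            | succ k ihk => exact (len_σ_mul_le P x _).trans (by simpa using ihk y x)
          have := hle v s i'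
          rw [← e, hw] at this
          omega
        rcases ih i (by omega) _ hli with h | h <;> rcases hall s with rfl | rfl
        · obtain rfl := hbad s b h rfl
          left; simp [h, pr]
        · right; rw [wp_cons, h]; rfl
        · left; rw [wp_cons, h]; rfl
        · obtain rfl := hbad s a h rfl
          right; simp [h, pr]
  have hlen : ∀ k ≤ n, len P (pr (σ P a) (σ P b) k) = k ∧ len P (pr (σ P b) (σ P a) k) = k := by
    have key : ∀ x y : P.S, x ≠ y → (∀ j, ∀ w, len P w = j →
        w = pr (σ P x) (σ P y) j ∨ w = pr (σ P y) (σ P x) j) →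
        ∀ k ≤ orderOf (σ P x * σ P y), len P (pr (σ P x) (σ P y) k) = k := by
      intro x y hxy hc k hk
      have hle : len P (pr (σ P x) (σ P y) k) ≤ k := by
        have : ∀ x y : P.S, ∀ k, len P (pr (σ P x) (σ P y) k) ≤ k := by
          intro x y k
          induction k generalizing x y with
          | zero => simp [pr]
          | succ k ihk => exact (len_σ_mul_le P x _).trans (by simpa using ihk y x)
        exact this x y k
      by_contra hne
      rcases hc _ _ rfl with h | h
      · exact (pr_ne (σ_mul_self P x) (σ_mul_self P y) (σ_ne_one P x) (σ_ne_one P y)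
          (fun e => hxy (σ_inj P e)) (lt_of_le_of_ne hle hne) hk).1 h
      · exact (pr_ne (σ_mul_self P x) (σ_mul_self P y) (σ_ne_one P x) (σ_ne_one P y)
          (fun e => hxy (σ_inj P e)) (lt_of_le_of_ne hle hne) hk).2 h
    refine fun k hk => ⟨key a b hab hclass k hk,
      key b a hab.symm (fun j w h => (hclass j w h).symm) k ?_⟩
    rw [mul_swap_eq_inv (σ_mul_self P a) (σ_mul_self P b), orderOf_inv]
    exact hk
  have hT : ∀ k ≤ n, pr (T P (σ P a)) (T P (σ P b)) k = T P (pr (σ P a) (σ P b) k) ∧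
      pr (T P (σ P b)) (T P (σ P a)) k = T P (pr (σ P b) (σ P a) k) := by
    intro k
    induction k with
    | zero => intro _; exact ⟨(T_one P).symm, (T_one P).symm⟩
    | succ k ih =>
      intro hk
      obtain ⟨h1, h2⟩ := ih (by omega)
      obtain ⟨l1, l2⟩ := hlen (k + 1) hk
      obtain ⟨m1, m2⟩ := hlen k (by omega)
      constructor
      · show T P (σ P a) * pr (T P (σ P b)) (T P (σ P a)) k = _
        rw [h2, T_mul P a _ (by simp only [pr] at l1; omega)]
        rfl
      · show T P (σ P b) * pr (T P (σ P a)) (T P (σ P b)) k = _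
        rw [h1, T_mul P b _ (by simp only [pr] at l2; omega)]
        rfl
  have hn2 : 2 ≤ n := by
    have h0 : 0 < n := orderOf_pos _
    have h1 : n ≠ 1 := by
      rw [hn, Ne, orderOf_eq_one_iff, mul_eq_one_iff_eq_inv, σ_inv]
      exact hσ
    omega
  let D : HeckeRep (G ⧸ P.B) :=
    { n := n, s := par P a, t := par P b, hn := hn2, hs := two_le_par P a, ht := two_le_par P b
      hX := inferInstance
      x := T P (σ P a), y := T P (σ P b)
      hx := T_sq P a, hy := T_sq P b
      tr_x := fun k hk1 hk => by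
        rw [(hT k hk).1]
        refine trace_T P fun h => ?_
        have := (hlen k hk).1
        rw [h, len_one] at this
        omega
      tr_y := fun k hk1 hk => by
        rw [(hT k hk).2]
        refine trace_T P fun h => ?_
        have := (hlen k hk).2
        rw [h, len_one] at this
        omega
      braid := by
        rw [(hT n le_rfl).1, (hT n le_rfl).2, hn, braid_pr (σ_mul_self P a) (σ_mul_self P b)] }
  have hmem := D.n_mem
  rw [card_eq (σ_mul_self P a) (σ_mul_self P b) (σ_ne_one P a) (σ_ne_one P b) hσ hgen, ← hn]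
  simp only [Set.mem_insert_iff, Set.mem_singleton_iff] at hmem ⊢
  have : D.n = n := rfl
  omega

end Cfsg.Agent.FeitHigman
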